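import Groth.Agent.H13RegImm.Basic
import Groth.Agent.H13Desc.Immersion
import Groth.Agent.H12AlgSp.LocP
import Groth.Agent.H12AlgSp.SchImage
import Groth.Prelude.Def_AlgSpMor6

/-!
# Regular immersions of algebraic spaces: base change and composition
-/

set_option autoImplicit false
set_option linter.style.haveILetI false
set_option backward.isDefEq.respectTransparency false
universe u

open CategoryTheory CategoryTheory.Limits AlgebraicGeometry Opposite
open AlgSp

namespace Groth.Agent.H13RegImm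

theorem isImmersion_descend {Z X X' Z' : Scheme.{u}} (i : Z ⟶ X) (g : X' ⟶ X) [Surjective g] [Flat g]
    [LocallyOfFinitePresentation g] (g' : Z' ⟶ Z) (i' : Z' ⟶ X') (sq : IsPullback g' i' i g)
    (h : IsImmersion i') : IsImmersion i := by
  have : IsImmersion (pullback.snd i g) := by
    rw [← sq.isoIsPullback_inv_snd _ _ (IsPullback.of_hasPullback i g)]
    infer_instance
  have ho : IsOpenMap g := g.isOpenMap
  refine Groth.Agent.H13Desc.isImmersion_of_pullback i g
    (ho.preimage_closure_eq_closure_preimage g.continuous _)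
    (fun s hs => (ho.isQuotientMap g.continuous g.surjective).isOpen_preimage.mp hs) fun U hU => ?_
  haveI : Surjective (g ∣_ U) := IsZariskiLocalAtTarget.restrict ‹_› U
  haveI : Flat (g ∣_ U) := IsZariskiLocalAtTarget.restrict ‹_› U
  haveI : LocallyOfFinitePresentation (g ∣_ U) := IsZariskiLocalAtTarget.restrict ‹_› U
  exact MorphismProperty.of_pullback_snd_of_descendsAlong (P := @IsClosedImmersion)
    (Q := @Surjective ⊓ @Flat ⊓ @LocallyOfFinitePresentation) ⟨⟨inferInstance, inferInstance⟩, inferInstance⟩ hU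

variable {S : Scheme.{u}}

/-- Flat base change of regular immersions of algebraic spaces. -/
theorem isRegImmMor_baseChange {k : RegImm.Kind} (hk : k ≠ RegImm.Kind.regular) {Z X X' P : AlgSp.Sp S}
    {i : Z ⟶ X} {g : X' ⟶ X} {fst : P ⟶ Z} {i' : P ⟶ X'} (sq : IsPullback fst i' i g)
    (hX : IsAlgSpace X) (hi : IsRegImmMor k i) (hg : LocP @Flat g) : IsRegImmMor k i' := by
  refine ⟨H12AlgSp.representable_of_isPullback sq hi.1, fun V W b f₀ snd hb hpb => ?_⟩
  obtain ⟨V₁, q, hq, hqs⟩ := hX.atlas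
  obtain ⟨T, t, k₀, sqT⟩ := hq.rep (b ≫ g)
  obtain ⟨k₀, rfl⟩ := (yon S).map_surjective k₀
  have ht : Etale t.left := hq.property _ _ t sqT
  have hts : Surjective t.left := hqs.property _ _ t sqT
  haveI : Flat k₀.left := hg ((yon S).map t ≫ b) q k₀
    (H12AlgSp.repWith_comp ((repWith_yon_map_iff _ _).2 ht) hb) hq (by rw [Category.assoc, sqT.w])
  obtain ⟨W₁, s₁, f₁, sq₁⟩ := hi.1 q
  have hs₁ : RegImm.IsRegularImmersion k s₁.left := hi.2 q f₁ s₁ hq sq₁
  have sqW : IsPullback (pullback.fst snd t) (pullback.snd snd t) snd t := IsPullback.of_hasPullback snd t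
  have big : IsPullback ((yon S).map (pullback.fst snd t) ≫ f₀ ≫ fst) ((yon S).map (pullback.snd snd t))
      i ((yon S).map k₀ ≫ q) := by
    have h1 := (sqW.map (yon S)).paste_horiz (hpb.paste_horiz sq)
    rwa [← sqT.w] at h1
  obtain ⟨l, hl1, hl2⟩ := sq₁.exists_lift ((yon S).map (pullback.fst snd t) ≫ f₀ ≫ fst) ((yon S).map (pullback.snd snd t) ≫ (yon S).map k₀)
    (by simpa only [Category.assoc] using big.w)
  rw [← hl1] at big
  have h2 := IsPullback.of_right big hl2 sq₁
  obtain ⟨l, rfl⟩ := (yon S).map_surjective l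
  have sql : IsPullback l (pullback.snd snd t) s₁ k₀ :=
    IsPullback.of_map (yon S) ((yon S).map_injective (by simpa using h2.w)) h2
  have hW'' := baseChange hk s₁.left k₀.left _ _ (H12AlgSp.isPullback_left sql) hs₁
  have sqW' := H12AlgSp.isPullback_left sqW
  haveI : IsImmersion snd.left := isImmersion_descend snd.left t.left _ _ sqW' hW''.1
  exact descend hk snd.left t.left t.left.isOpenMap _ _ sqW' hW''

/-- Composites of immersions of algebraic spaces: reduction to schemes. -/
theorem isRegImmMor_comp {k₁ k₂ k₃ : RegImm.Kind}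
    (H : ∀ {Z Y X : Scheme.{u}} (j : Z ⟶ Y) (i : Y ⟶ X), RegImm.IsRegularImmersion k₁ j →
      RegImm.IsRegularImmersion k₂ i → RegImm.IsRegularImmersion k₃ (j ≫ i))
    {Z Y X : AlgSp.Sp S} {i : Z ⟶ Y} {j : Y ⟶ X} (hi : IsRegImmMor k₁ i) (hj : IsRegImmMor k₂ j) :
    IsRegImmMor k₃ (i ≫ j) := by
  refine ⟨MorphismProperty.comp_mem (W := AlgSp.Representable) i j hi.1 hj.1, fun V W b f₀ snd hb hpb => ?_⟩
  obtain ⟨W₁, s₁, f₁, sq₁⟩ := hj.1 b
  obtain ⟨l, hl1, hl2⟩ := sq₁.exists_lift (f₀ ≫ i) ((yon S).map snd) (by rw [Category.assoc]; exact hpb.w)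
  obtain ⟨l, rfl⟩ := (yon S).map_surjective l
  rw [← hl2] at hpb
  have h2 : IsPullback f₀ ((yon S).map l) i f₁ := IsPullback.of_bot hpb hl1.symm sq₁
  have hf₁ : RepWith @Etale f₁ := H12AlgSp.repWith_of_isPullback sq₁.flip hb
  have h3 : l ≫ s₁ = snd := (yon S).map_injective (by rw [Functor.map_comp, hl2])
  rw [← h3, Over.comp_left]
  exact H l.left s₁.left (hi.2 f₁ f₀ l hf₁ h2) (hj.2 b f₁ s₁ hb sq₁)

end Groth.Agent.H13RegImm
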