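import Groth.Agent.H17.RegDescent.Scheme
import Groth.Agent.S2104
import Groth.Agent.S2105

/-!
# Regular immersions of the kinds Koszul, H₁, quasi: base change, locality, descent, composition
-/

set_option autoImplicit false
set_option linter.style.haveILetI false
set_option backward.isDefEq.respectTransparency false
universe u

open CategoryTheory CategoryTheory.Limits AlgebraicGeometry TopologicalSpace

namespace Groth.Agent.H13RegImm

variable {X X' Y Z Z' : Scheme.{u}}

/-- Flat base change. -/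
theorem baseChange {k : RegImm.Kind} (hk : k ≠ RegImm.Kind.regular) (i : Z ⟶ X) (g : X' ⟶ X) [Flat g]
    (i' : Z' ⟶ X') (g' : Z' ⟶ Z) (hsq : IsPullback g' i' i g)
    (hi : RegImm.IsRegularImmersion k i) : RegImm.IsRegularImmersion k i' := by
  refine ⟨MorphismProperty.of_isPullback (P := @IsImmersion) hsq hi.1, fun z' => ?_⟩
  obtain ⟨U, hz, hcl, rs, hrs, hker⟩ := hi.2 (g' z')
  have hzz : i' z' ∈ g ⁻¹ᵁ U.1 := by
    show g (i' z') ∈ U.1
    rw [← Scheme.Hom.comp_apply, ← hsq.w]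
    exact hz
  obtain ⟨W, hW, hzW, hWU⟩ := exists_isAffineOpen_mem_and_subset (U := g ⁻¹ᵁ U.1) hzz
  obtain ⟨hcl', hker'⟩ := H29Slice.restrict_baseChange hsq U.2 hcl hW (e := hWU)
  letI := (g.appLE U.1 W hWU).hom.toAlgebra
  haveI : Module.Flat Γ(X, U.1) Γ(X', W) := HasRingHomProperty.appLE @Flat g inferInstance U ⟨W, hW⟩ hWU
  refine ⟨⟨W, hW⟩, hzW, hcl', rs.map (algebraMap Γ(X, U.1) Γ(X', W)),
    H17.RegDescent.seq_flat' hk _ hrs, ?_⟩
  rw [hker', hker, Ideal.map_ofList]
  rfl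

/-- Being a regular immersion is local on the target. -/
theorem of_restrict {k : RegImm.Kind} (i : Z ⟶ X) [IsImmersion i]
    (h : ∀ z : Z, ∃ O : X.Opens, i z ∈ O ∧ RegImm.IsRegularImmersion k (i ∣_ O)) :
    RegImm.IsRegularImmersion k i := by
  refine ⟨inferInstance, fun z => ?_⟩
  obtain ⟨O, hzO, -, hO⟩ := h z
  obtain ⟨⟨U, hU⟩, hzU, hcl, rs, hrs, hker⟩ := hO ⟨z, hzO⟩
  have hz : i z ∈ O.ι ''ᵁ U := ⟨_, hzU, by
    show O.ι ((i ∣_ O) _) = i z
    rw [← Scheme.Hom.comp_apply, morphismRestrict_ι, Scheme.Hom.comp_apply]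
    rfl⟩
  have hcl' : IsClosedImmersion (i ∣_ O.ι ''ᵁ U) :=
    (MorphismProperty.arrow_mk_iso_iff (P := @IsClosedImmersion) (morphismRestrictRestrict i O U)).1 hcl
  rw [morphismRestrict_app] at hker
  refine ⟨⟨O.ι ''ᵁ U, hU.image_of_isOpenImmersion O.ι⟩, hz, hcl', rs, hrs, ?_⟩
  refine Eq.trans ?_ hker
  change RingHom.ker (i.app (O.ι ''ᵁ U)).hom = RingHom.ker ((CommRingCat.Hom.hom _).comp _)
  exact (RingHom.ker_comp_of_injective _
    (ConcreteCategory.bijective_of_isIso (Z.presheaf.map (eqToHom (image_morphismRestrict_preimage i O U)).op)).1).symm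

/-- Descent along flat, open, surjective morphisms. -/
theorem descend {k : RegImm.Kind} (hk : k ≠ RegImm.Kind.regular) (i : Z ⟶ X) [IsImmersion i]
    (g : X' ⟶ X) [Flat g] [Surjective g] (hg : IsOpenMap g)
    (i' : Z' ⟶ X') (g' : Z' ⟶ Z) (hsq : IsPullback g' i' i g)
    (h : RegImm.IsRegularImmersion k i') : RegImm.IsRegularImmersion k i := by
  refine of_restrict i fun z => ?_
  obtain ⟨O, hO, hzO, -⟩ := exists_isAffineOpen_mem_and_subset (U := (⊤ : X.Opens)) (x := i z) trivial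
  refine ⟨O, hzO, ?_⟩
  obtain ⟨(K : X'.Opens), hK, hKO⟩ := hg.exists_opens_image_eq_of_prespectralSpace g.continuous
    (U := (O : Set X)) (fun x _ => g.surjective x) O.isOpen hO.isCompact
  have hKle : K ≤ g ⁻¹ᵁ O := fun x hx => hKO.le ⟨x, hx, rfl⟩
  let gK : (K : Scheme.{u}) ⟶ O := IsOpenImmersion.lift O.ι (K.ι ≫ g) (by
    rw [Scheme.Hom.comp_base, TopCat.coe_comp, Set.range_comp, Scheme.Opens.range_ι, Scheme.Opens.range_ι]
    exact hKO.le)
  have hgK : gK ≫ O.ι = K.ι ≫ g := IsOpenImmersion.lift_fac _ _ _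
  haveI : Flat gK := by
    have h1 : Flat (gK ≫ O.ι) := by rw [hgK]; infer_instance
    exact MorphismProperty.of_postcomp (W := @Flat) (W' := @IsOpenImmersion) gK O.ι inferInstance h1
  haveI : Surjective gK := ⟨fun x => by
    obtain ⟨y, hy, hyx⟩ := hKO.ge x.2
    refine ⟨⟨y, hy⟩, O.ι.isOpenEmbedding.injective ?_⟩
    rw [← Scheme.Hom.comp_apply, hgK, Scheme.Hom.comp_apply]
    exact hyx⟩
  haveI : CompactSpace (K : Scheme.{u}) := isCompact_iff_compactSpace.1 hK
  haveI : IsAffine (O : Scheme.{u}) := hO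
  haveI : QuasiCompact gK := (quasiCompact_iff_compactSpace gK).mpr inferInstance
  have sqK : IsPullback (pullback.fst i' K.ι ≫ g') (pullback.snd i' K.ι) i (gK ≫ O.ι) := by
    rw [hgK]
    exact (IsPullback.of_hasPullback i' K.ι).paste_horiz hsq
  have sqO : IsPullback (i ⁻¹ᵁ O).ι (i ∣_ O) i O.ι := (isPullback_morphismRestrict i O).flip
  have sqKO := IsPullback.of_right' sqK sqO
  exact H17.RegDescent.descend (i ∣_ O) gK _ _ sqKO k hk
    (baseChange hk i' K.ι (pullback.snd i' K.ι) (pullback.fst i' K.ι) (IsPullback.of_hasPullback i' K.ι) h)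

theorem transport_cast {A : Type u} (P : ∀ n, (Fin n → A) → Prop) {n m : ℕ} (e : n = m) (f : Fin m → A)
    (h : P m f) : P n (f ∘ Fin.cast e) := by
  subst e; exact h

/-- An `H₁`-regular sequence modulo an `H₁`-regular (quasi-regular) one. -/
theorem seq_append {k : RegImm.Kind} (hk : k = RegImm.Kind.h1 ∨ k = RegImm.Kind.quasi)
    {A B : Type u} [CommRing A] [CommRing B] (q : A →+* B) (hq : Function.Surjective q)
    {l : List A} (hl : k.Seq A l) (hker : RingHom.ker q = Ideal.ofList l) {gs : List A}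
    (hg : RegImm.Kind.h1.Seq B (gs.map q)) : k.Seq A (l ++ gs) := by
  let I := Ideal.span (Set.range l.get)
  have hI : I = RingHom.ker q := by rw [hker]; simp only [I, Ideal.ofList, Set.range_list_get]
  let e : B ≃+* A ⧸ I :=
    (RingHom.quotientKerEquivOfSurjective hq).symm.trans (Ideal.quotEquivOfEq hI.symm)
  have he : ∀ a, e (q a) = Ideal.Quotient.mk I a := fun a => by
    have : (RingHom.quotientKerEquivOfSurjective hq).symm (q a) = Ideal.Quotient.mk _ a := by
      rw [RingEquiv.symm_apply_eq]; rfl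
    simp [e, this]
  letI := e.toRingHom.toAlgebra
  haveI := H29Slice.isLocalization_bot_of_bijective (R := B) (L := A ⧸ I) e.bijective
  have h1 := H29Slice.seq_localization (Or.inl rfl) (⊥ : Submonoid B) (L := A ⧸ I) hg
  have h2 : CAlgX.IsH1Regular (fun j => Ideal.Quotient.mk I (gs.get j)) := by
    have h3 : RegImm.Kind.h1.Seq (A ⧸ I) (gs.map (Ideal.Quotient.mk I)) := by
      rw [List.map_map] at h1
      exact (congrArg (RegImm.Kind.h1.Seq (A ⧸ I)) (List.map_congr_left fun a _ => he a)).mp h1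
    have h4 := transport_cast (fun n f => CAlgX.IsH1Regular (R := A ⧸ I) (c := n) f)
      (List.length_map (Ideal.Quotient.mk I) (as := gs)).symm _ h3
    convert h4 using 1
    funext j
    simp
  have hget : (l ++ gs).get = Fin.append l.get gs.get ∘ Fin.cast (List.length_append ..) := by
    funext j
    obtain ⟨j, hj⟩ := j
    rw [Function.comp_apply, Fin.append, Fin.addCases]
    simp only [Fin.cast_mk, List.get_eq_getElem]
    split_ifs with h
    · exact List.getElem_append_left h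
    · simp [List.getElem_append_right (Nat.le_of_not_lt h)]
  rcases hk with rfl | rfl
  · show CAlgX.IsH1Regular _
    rw [hget]
    exact transport_cast (fun n f => CAlgX.IsH1Regular (c := n) f) _ _ (Groth.Agent.S2105.result _ _ hl h2)
  · show CAlgX.IsQuasiRegular _
    rw [hget]
    exact transport_cast (fun n f => CAlgX.IsQuasiRegular (c := n) f) _ _ (Groth.Agent.S2104.result _ _ hl h2)

/-- Composites: `H₁` after `H₁` or quasi. -/
theorem comp {k : RegImm.Kind} (hk : k = RegImm.Kind.h1 ∨ k = RegImm.Kind.quasi) (j : Z ⟶ Y) (i : Y ⟶ X)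
    (hi : RegImm.IsRegularImmersion k i) (hj : RegImm.IsRegularImmersion .h1 j) :
    RegImm.IsRegularImmersion k (j ≫ i) := by
  haveI := hi.1
  haveI := hj.1
  refine ⟨inferInstance, fun z => ?_⟩
  obtain ⟨W, hzW, hclW, gs, hgs, hkW⟩ := hj.2 z
  obtain ⟨O, hO, hOW⟩ := i.isEmbedding.isInducing.isOpen_iff.1 W.1.isOpen
  have hzO : i (j z) ∈ O := (hOW.ge hzW : j z ∈ i ⁻¹' O)
  obtain ⟨D, hzD, hDO, hclD, rs, hrs, hkD⟩ := H29Slice.exists_shrink hk i (j z) (hi.2 (j z)) ⟨O, hO⟩ hzO
  let W' : Y.Opens := i ⁻¹ᵁ D.1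
  have hW'W : W' ≤ W.1 := fun y hy => hOW.le (show y ∈ i ⁻¹' O from hDO hy)
  haveI : IsAffine (D.1 : Scheme.{u}) := D.2
  haveI := hclD
  have hW' : IsAffineOpen W' := isAffine_of_isAffineHom (i ∣_ D.1)
  have H : IsPullback (𝟙 Z) j j (𝟙 Y) := IsPullback.of_horiz_isIso ⟨by simp⟩
  obtain ⟨hclW', hkW'⟩ := H29Slice.restrict_baseChange H W.2 hclW hW' (e := hW'W)
  letI := ((𝟙 Y : Y ⟶ Y).appLE W.1 W' hW'W).hom.toAlgebra
  haveI : Module.Flat Γ(Y, W.1) Γ(Y, W') :=
    HasRingHomProperty.appLE @Flat (𝟙 Y : Y ⟶ Y) inferInstance W ⟨W', hW'⟩ hW'W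
  have hgW' := H29Slice.seq_flat (Or.inl rfl) (S := Γ(Y, W')) hgs
  have hsurj : Function.Surjective (i.app D.1).hom := (H17.app_surjective_of_restrict i D.2).1
  let lift := Function.surjInv hsurj
  have hlift : ∀ b, (i.app D.1).hom (lift b) = b := Function.surjInv_eq hsurj
  let gs' := (gs.map (algebraMap Γ(Y, W.1) Γ(Y, W'))).map lift
  have hmap : gs'.map (i.app D.1).hom = gs.map (algebraMap Γ(Y, W.1) Γ(Y, W')) := by
    simp only [gs', List.map_map]
    refine List.map_congr_left fun a _ => ?_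
    simp [hlift]
  refine ⟨D, hzD, ?_, rs ++ gs', seq_append hk (i.app D.1).hom hsurj hrs hkD (hmap.symm ▸ hgW'), ?_⟩
  · rw [morphismRestrict_comp]
    exact MorphismProperty.comp_mem (W := @IsClosedImmersion) _ _ hclW' hclD
  · rw [Scheme.Hom.comp_app]
    change RingHom.ker ((j.app W').hom.comp (i.app D.1).hom) = _
    rw [← RingHom.comap_ker, hkW', hkW, Ideal.map_ofList]
    change Ideal.comap _ (Ideal.ofList (gs.map (algebraMap Γ(Y, W.1) Γ(Y, W')))) = _
    rw [← hmap, ← Ideal.map_ofList,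
      Ideal.comap_map_of_surjective _ hsurj, ← RingHom.ker_eq_comap_bot, hkD, Ideal.ofList_append, sup_comm]

end Groth.Agent.H13RegImm
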